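import Cfsg.Agent.DegreeGraph.Basic
import Cfsg.Agent.PrincipalBlock.Kernel
import Cfsg.Agent.Solvable.Fitting

/-!
# Broline's theorem on kernels and degrees, and Garrison's nilpotent length bound

Inducing the restriction of a character to a maximal subgroup supplementing its kernel gives a
character of larger degree with smaller kernel, unless the character vanishes on the part of the
maximal subgroup outside its normal core.
-/

set_option autoImplicit false
set_option linter.style.haveILetI false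
set_option linter.unusedSectionVars false

namespace CfsgLib.Broline73

open CfsgLib.Characters CfsgLib.OddOrderChar CfsgLib.CharactersDeep
open scoped ComplexConjugate

universe u

variable {G : Type u} [Group G] [Fintype G]

/-- A normal supplement trivial on `χ` leaves the restriction irreducible. -/
theorem restrict_irr {χ : G → ℂ} (hχ : Cfsg.IsIrrCharacter G χ) (K : Subgroup G) [K.Normal]
    (hK : ∀ k ∈ K, χ k = χ 1) (M : Subgroup G) (hKM : K ⊔ M = ⊤) :
    Cfsg.IsIrrCharacter M (fun x : M => χ x) := by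
  obtain ⟨ψ, hψ, he⟩ := exists_irr_quotient K hχ hK
  have hsurj : Function.Surjective ((QuotientGroup.mk' K).comp M.subtype) := by
    intro x
    induction x using QuotientGroup.induction_on with | _ y =>
    obtain ⟨k, hk, m, hm, rfl⟩ := Subgroup.mem_sup_of_normal_left.mp
      (hKM ▸ Subgroup.mem_top y : y ∈ K ⊔ M)
    exact ⟨⟨m, hm⟩, by
      show (QuotientGroup.mk m : G ⧸ K) = QuotientGroup.mk (k * m)
      rw [QuotientGroup.mk_mul, (QuotientGroup.eq_one_iff k).mpr hk, one_mul]⟩
  have h := isIrr_comp ((QuotientGroup.mk' K).comp M.subtype) hsurj hψ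
  convert h using 1
  exact funext fun x => he x

theorem re_apply_le {χ : G → ℂ} (hχ : Cfsg.IsCharacter G χ) {d : ℕ} (hd : χ 1 = d) (g : G) :
    (χ g).re ≤ d := by
  obtain ⟨n, ρ, rfl⟩ := hχ
  refine (Complex.re_le_norm _).trans ((norm_char_le ρ g).trans (le_of_eq ?_))
  rw [Representation.char_one] at hd
  exact_mod_cast hd

/-- An element in the kernel of a character is in the kernel of each constituent. -/
theorem apply_eq_one_of_constituent {θ : G → ℂ} (hθ : Cfsg.IsCharacter G θ)
    (χ : Cfsg.IrrCharacter G) (hne : Cfsg.classInner θ (χ : G → ℂ) ≠ 0) {g : G}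
    (hg : θ g = θ 1) : (χ : G → ℂ) g = (χ : G → ℂ) 1 := by
  classical
  obtain ⟨c, hc⟩ := exists_nat_coeff hθ
  choose d hd0 hd using fun ψ : Cfsg.IrrCharacter G => exists_degree_pos ψ.2
  have hcχ : c χ ≠ 0 := by
    intro h0
    apply hne
    rw [hc, classInner_irr_coeff (fun ψ => (c ψ : ℂ)) χ, h0, Nat.cast_zero]
  have hsum : ∑ ψ, (c ψ : ℝ) * ((d ψ : ℝ) - ((ψ : G → ℂ) g).re) = 0 := by
    have h := congrArg Complex.re hg
    rw [hc] at h
    simp only [Finset.sum_apply, Pi.smul_apply, smul_eq_mul, hd, Complex.re_sum,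
      Complex.mul_re, Complex.natCast_re, Complex.natCast_im, zero_mul, sub_zero] at h
    simp only [mul_sub, Finset.sum_sub_distrib, h, sub_self]
  have hterm := (Finset.sum_eq_zero_iff_of_nonneg fun ψ _ => mul_nonneg (Nat.cast_nonneg _)
    (sub_nonneg.mpr (re_apply_le (isCharacter_of_isIrr ψ.2) (hd ψ) g))).mp hsum χ (Finset.mem_univ χ)
  have hre : ((χ : G → ℂ) g).re = d χ :=
    (sub_eq_zero.mp ((mul_eq_zero.mp hterm).resolve_left (Nat.cast_ne_zero.mpr hcχ))).symm
  obtain ⟨n, ρ, -, hρ⟩ := χ.2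
  have hnorm : ‖(χ : G → ℂ) g‖ ≤ (d χ : ℝ) := by
    have h1 := hd χ
    rw [← hρ, Representation.char_one] at h1
    rw [← hρ]
    exact (norm_char_le ρ g).trans (le_of_eq (by exact_mod_cast h1))
  rw [hd χ]
  refine Complex.ext (by rw [hre, Complex.natCast_re]) ?_
  rw [Complex.natCast_im]
  have h2 : ((χ : G → ℂ) g).re ^ 2 + ((χ : G → ℂ) g).im ^ 2 ≤ (d χ : ℝ) ^ 2 := by
    calc _ = ‖(χ : G → ℂ) g‖ ^ 2 := by rw [Complex.sq_norm, Complex.normSq_apply]; ring
      _ ≤ _ := pow_le_pow_left₀ (norm_nonneg _) hnorm 2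
  rw [hre] at h2
  exact pow_eq_zero_iff two_ne_zero |>.mp (le_antisymm (by linarith) (sq_nonneg _))

/-- The dichotomy at a maximal subgroup supplementing the kernel. -/
theorem bigger_or_vanish (χ : Cfsg.IrrCharacter G) (K : Subgroup G) [K.Normal]
    (hK : ∀ g : G, g ∈ K ↔ (χ : G → ℂ) g = (χ : G → ℂ) 1) (M : Subgroup G) (hM : IsCoatom M)
    (hKM : ¬ K ≤ M) :
    (∃ ψ : Cfsg.IrrCharacter G,
      Cfsg.charDegree (χ : G → ℂ) < Cfsg.charDegree (ψ : G → ℂ) ∧
        ∃ L : Subgroup G, (∀ g : G, g ∈ L ↔ (ψ : G → ℂ) g = (ψ : G → ℂ) 1) ∧ L < K) ∨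
      ∀ m ∈ M, (χ : G → ℂ) m ≠ 0 → m ∈ M.normalCore := by
  classical
  haveI := Fintype.ofFinite M
  have hsup : K ⊔ M = ⊤ := hM.2 _ (right_lt_sup.mpr hKM)
  obtain ⟨a, ha0, ha⟩ := exists_degree_pos χ.2
  set θ : M → ℂ := fun x => (χ : G → ℂ) x with hθdef
  have hθ : Cfsg.IsIrrCharacter M θ := restrict_irr χ.2 K (fun k hk => (hK k).mp hk) M hsup
  have hθ1 : θ 1 = a := ha
  by_cases hex : ∃ ψ : Cfsg.IrrCharacter G, Cfsg.classInner (fun x : M => (ψ : G → ℂ) x) θ ≠ 0 ∧
      Cfsg.charDegree (χ : G → ℂ) < Cfsg.charDegree (ψ : G → ℂ)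
  · obtain ⟨ψ, hne, hlt⟩ := hex
    refine Or.inl ⟨ψ, hlt, PrincipalBlock.charKer ψ, fun g => Iff.rfl, ?_⟩
    obtain ⟨b, hb0, hb⟩ := exists_degree_pos ψ.2
    have hLM : PrincipalBlock.charKer ψ ≤ M := by
      by_contra hLM
      have hψM := restrict_irr ψ.2 (PrincipalBlock.charKer ψ) (fun g hg => hg) M
        (hM.2 _ (right_lt_sup.mpr hLM))
      by_cases he : (fun x : M => (ψ : G → ℂ) x) = θ
      · have h1 := congrFun he 1
        rw [hθ1] at h1
        simp only [OneMemClass.coe_one, hb] at h1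
        rw [DegreeGraph.charDegree_eq hb, DegreeGraph.charDegree_eq ha,
          show b = a by exact_mod_cast h1] at hlt
        exact lt_irrefl _ hlt
      · exact hne (classInner_isIrr_ne hψM hθ he)
    refine lt_of_le_of_ne (fun g hg => (hK g).mpr ?_) fun e => hKM (e ▸ hLM)
    exact apply_eq_one_of_constituent (isCharacter_restrict M (isCharacter_of_isIrr ψ.2))
      ⟨θ, hθ⟩ hne (g := ⟨g, hLM hg⟩) hg
  right
  push Not at hex
  have hrestrict : ∀ ψ : Cfsg.IrrCharacter G,
      Cfsg.classInner (fun x : M => (ψ : G → ℂ) x) θ ≠ 0 → (fun x : M => (ψ : G → ℂ) x) = θ := by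
    intro ψ hne
    obtain ⟨b, -, hb⟩ := exists_degree_pos ψ.2
    refine eq_irr_of_degree_le (isCharacter_restrict M (isCharacter_of_isIrr ψ.2)) hθ hne ?_
    have h := hex ψ hne
    rw [DegreeGraph.charDegree_eq hb, DegreeGraph.charDegree_eq ha] at h
    rw [hθ1]
    simp only [OneMemClass.coe_one, hb, Complex.natCast_re]
    exact_mod_cast h
  set F := Cfsg.indFun M θ with hFdef
  obtain ⟨c, hc⟩ :=
    exists_nat_coeff (OddOrderChar.isCharacter_indFun M (isCharacter_of_isIrr hθ) :
      Cfsg.IsCharacter G F)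
  have hval : ∀ x : M, F x = (∑ ψ, (c ψ : ℂ)) * θ x := by
    intro x
    rw [show F = _ from hc, Finset.sum_apply, Finset.sum_mul]
    refine Finset.sum_congr rfl fun ψ _ => ?_
    rw [Pi.smul_apply, smul_eq_mul]
    by_cases hcψ : c ψ = 0
    · simp [hcψ]
    congr 1
    refine congrFun (hrestrict ψ fun h0 => hcψ ?_) x
    have h := classInner_irr_coeff (fun ψ => (c ψ : ℂ)) ψ
    rw [← hc, classInner_indFun_left M θ (isClassFunction_of_isIrr ψ.2),
      classInner_conj_symm, h0, map_zero] at h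
    exact_mod_cast h.symm
  have hF1 : (∑ ψ, (c ψ : ℂ)) = (M.index : ℂ) := by
    have h := hval 1
    rw [OneMemClass.coe_one, hFdef, OddOrderChar.indFun_one] at h
    exact (mul_right_cancel₀ (irr_one_ne_zero hθ) h).symm
  intro m hm hne x
  have hFm := hval ⟨m, hm⟩
  simp only [hFdef, hF1, Cfsg.indFun, Cfsg.extendByZero] at hFm
  have hterm : ∀ y : G, Function.extend Subtype.val θ 0 (y⁻¹ * m * y) =
      (if y⁻¹ * m * y ∈ M then (1 : ℂ) else 0) * (χ : G → ℂ) m := by
    intro y
    by_cases hy : y⁻¹ * m * y ∈ M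
    · rw [if_pos hy, one_mul]
      refine (Subtype.val_injective.extend_apply θ 0 ⟨_, hy⟩).trans ?_
      have h := isClassFunction_of_isIrr χ.2 m y⁻¹
      simpa [hθdef] using h
    · rw [if_neg hy, zero_mul]
      refine (Function.extend_apply' (f := (Subtype.val : M → G)) θ 0 _ ?_).trans rfl
      rintro ⟨z, hz⟩
      exact hy (hz ▸ z.2)
  rw [Finset.sum_congr rfl fun y _ => hterm y, ← Finset.sum_mul, ← mul_assoc,
    show θ ⟨m, hm⟩ = (χ : G → ℂ) m from rfl] at hFm
  have hcount := mul_right_cancel₀ hne hFm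
  rw [inv_mul_eq_iff_eq_mul₀ (Characters.subgroup_card_ne_zero M), ← Nat.cast_mul,
    M.card_mul_index] at hcount
  have hall : ∀ y : G, y⁻¹ * m * y ∈ M := by
    by_contra h
    push Not at h
    obtain ⟨y, hy⟩ := h
    have hlt : (Finset.univ.filter fun y : G => y⁻¹ * m * y ∈ M).card < Nat.card G := by
      rw [Nat.card_eq_fintype_card, ← Finset.card_univ]
      exact Finset.card_lt_card (Finset.filter_ssubset.mpr ⟨y, Finset.mem_univ _, hy⟩)
    refine hlt.ne ?_
    apply Nat.cast_injective (R := ℂ)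
    rw [← hcount, ← Finset.sum_boole]
  show x * m * x⁻¹ ∈ M
  simpa using hall x⁻¹

section Group

variable {H : Type*} [Group H] [Finite H]

/-- A `p`-subgroup lies in a normal subgroup of index prime to `p`. -/
theorem le_of_coprime_relIndex {p : ℕ} [Fact p.Prime] {Q R S : Subgroup H} [R.Normal]
    (hQ : IsPGroup p Q) (hQS : Q ≤ S) (hidx : ¬ p ∣ R.relIndex S) : Q ≤ R := by
  refine Subgroup.relIndex_eq_one.mp ?_
  obtain ⟨k, hk⟩ := IsPGroup.iff_card.mp hQ
  have h1 : R.relIndex Q ∣ p ^ k := hk ▸ Subgroup.relIndex_dvd_card R Q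
  obtain ⟨j, -, hj⟩ := (Nat.dvd_prime_pow Fact.out).mp h1
  cases j with
  | zero => simpa using hj
  | succ j =>
    exfalso
    refine hidx (Dvd.dvd.trans (hj ▸ dvd_pow_self p (Nat.succ_ne_zero j)) ?_)
    rw [← Subgroup.relIndex_subgroupOf hQS]
    exact Subgroup.relIndex_dvd_index_of_normal _ _

theorem relIndex_dvd_mid {Q R S : Subgroup H} (hQR : Q ≤ R) (hRS : R ≤ S) :
    Q.relIndex R ∣ Q.relIndex S := Dvd.intro _ (Subgroup.relIndex_mul_relIndex Q R S hQR hRS)

/-- Frattini argument for a `p`-subgroup of index prime to `p` in a normal subgroup. -/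
theorem frattini {p : ℕ} [Fact p.Prime] {Q R : Subgroup H} [R.Normal] (hQ : IsPGroup p Q)
    (hQR : Q ≤ R) (hidx : ¬ p ∣ Q.relIndex R) :
    Subgroup.normalizer (Q : Set H) ⊔ R = ⊤ := by
  have hp' : IsPGroup p (Q.subgroupOf R) := hQ.comap_subtype
  have hidx' : ¬ p ∣ (Q.subgroupOf R).index := hidx
  have h := Sylow.normalizer_sup_eq_top (hp'.toSylow hidx')
  rwa [IsPGroup.toSylow_coe, Subgroup.map_subgroupOf_eq_of_le hQR] at h

end Group

theorem broline (χ : Cfsg.IrrCharacter G) (K : Subgroup G) [K.Normal]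
    (hK : ∀ g : G, g ∈ K ↔ (χ : G → ℂ) g = (χ : G → ℂ) 1)
    (h : ¬ K ≤ Cfsg.fittingSubgroup G ∨
      (K = Cfsg.fittingSubgroup G ∧ Group.IsSolvable (G ⧸ K) ∧ K ≠ ⊤)) :
    ∃ ψ : Cfsg.IrrCharacter G, Cfsg.charDegree (χ : G → ℂ) < Cfsg.charDegree (ψ : G → ℂ) ∧
      ∃ L : Subgroup G, (∀ g : G, g ∈ L ↔ (ψ : G → ℂ) g = (ψ : G → ℂ) 1) ∧ L < K := by
  classical
  rcases h with h | ⟨hKF, hsol, htop⟩
  · have hnil : ¬ Group.IsNilpotent K := fun hn => h (Solvable.le_fittingSubgroup hn)
    have h03 := (Group.isNilpotent_of_finite_tfae (G := K)).out 0 3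
    rw [h03] at hnil
    push Not at hnil
    obtain ⟨p, hp, P, hPn⟩ := hnil
    haveI := hp
    set Q := (P : Subgroup K).map K.subtype with hQ
    have hQK : Q ≤ K := Subgroup.map_subtype_le _
    have hQp : IsPGroup p Q := P.isPGroup'.map _
    have hQi : ¬ p ∣ Q.relIndex K := by
      rw [Subgroup.relIndex, hQ, ← Subgroup.comap_subtype,
        Subgroup.comap_map_eq_self_of_injective K.subtype_injective]
      exact P.not_dvd_index
    obtain ⟨M, hM, hNM⟩ := (eq_top_or_exists_le_coatom (Subgroup.normalizer (Q : Set G))).resolve_left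
      fun e => hPn (by
        haveI := Subgroup.normalizer_eq_top_iff.mp e
        rw [show (P : Subgroup K) = Q.comap K.subtype from
          (Subgroup.comap_map_eq_self_of_injective K.subtype_injective _).symm]
        infer_instance)
    have hKM : ¬ K ≤ M := fun hKM => hM.1 (eq_top_iff.mpr
      ((frattini hQp hQK hQi).ge.trans (sup_le hNM hKM)))
    refine (bigger_or_vanish χ K hK M hM hKM).resolve_right fun hvan => hM.1 ?_
    have hQD : Q ≤ M.normalCore := fun q hq => hvan q (hNM (Subgroup.le_normalizer hq))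
      (by rw [(hK q).mp (hQK hq)]; exact irr_one_ne_zero χ.2)
    refine eq_top_iff.mpr ((frattini hQp (le_inf hQD hQK) ?_).ge.trans
      (sup_le hNM (inf_le_left.trans (Subgroup.normalCore_le M))))
    exact fun hd => hQi (hd.trans (relIndex_dvd_mid (le_inf hQD hQK) inf_le_right))
  · subst hKF
    set K := Cfsg.fittingSubgroup G with hKdef
    haveI := hsol
    haveI : Nontrivial (G ⧸ K) := QuotientGroup.nontrivial_iff.mpr htop
    obtain ⟨A, hAn, hA0, hAmin⟩ := Solvable.exists_minimal_normal (G := G ⧸ K)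
    haveI := hAn
    obtain ⟨q, hq, hAq⟩ := Solvable.exists_isPGroup_of_minimal_normal hA0 hAmin
    haveI : Fact q.Prime := ⟨hq⟩
    set H := A.comap (QuotientGroup.mk' K) with hH
    haveI : H.Normal := Subgroup.Normal.comap hAn _
    have hKH : K ≤ H := by
      rw [← QuotientGroup.ker_mk' K, ← MonoidHom.comap_bot]
      exact Subgroup.comap_mono bot_le
    have hKH' : ¬ H ≤ K := fun hle => hA0 (by
      rw [← Subgroup.map_comap_eq_self_of_surjective (QuotientGroup.mk'_surjective K) A, ← hH,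
        _root_.eq_bot_iff]
      rintro _ ⟨x, hx, rfl⟩
      exact (QuotientGroup.eq_one_iff x).mpr (hle hx))
    obtain ⟨kA, hkA⟩ := IsPGroup.iff_card.mp hAq
    have hidxK : K.relIndex H = q ^ kA := by
      have h1 := Subgroup.relIndex_comap ⊥ (QuotientGroup.mk' K) H
      rw [MonoidHom.comap_bot, QuotientGroup.ker_mk', hH,
        Subgroup.map_comap_eq_self_of_surjective (QuotientGroup.mk'_surjective K),
        Subgroup.relIndex_bot_left] at h1
      rw [hH, h1, hkA]
    obtain ⟨P⟩ : Nonempty (Sylow q H) := inferInstance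
    set Q := (P : Subgroup H).map H.subtype with hQ
    have hQH : Q ≤ H := Subgroup.map_subtype_le _
    have hQp : IsPGroup q Q := P.isPGroup'.map _
    have hQi : ¬ q ∣ Q.relIndex H := by
      rw [Subgroup.relIndex, hQ, ← Subgroup.comap_subtype,
        Subgroup.comap_map_eq_self_of_injective H.subtype_injective]
      exact P.not_dvd_index
    have hQK : H ≤ Q ⊔ K := by
      rw [← Subgroup.relIndex_eq_one]
      refine Nat.eq_one_of_dvd_coprimes
        (((Fact.out : q.Prime).coprime_iff_not_dvd.mpr hQi).pow_left kA).symm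
        (Subgroup.relIndex_dvd_of_le_left H le_sup_left) ?_
      exact hidxK ▸ Subgroup.relIndex_dvd_of_le_left H le_sup_right
    obtain ⟨M, hM, hNM⟩ := (eq_top_or_exists_le_coatom (Subgroup.normalizer (Q : Set G))).resolve_left
      fun e => hKH' (hQK.trans (sup_le (by
        haveI := Subgroup.normalizer_eq_top_iff.mp e
        exact Solvable.le_fittingSubgroup hQp.isNilpotent) le_rfl))
    have hKM : ¬ K ≤ M := fun hKM => hM.1 (eq_top_iff.mpr
      ((frattini hQp hQH hQi).ge.trans (sup_le hNM (hQK.trans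
        (sup_le (Subgroup.le_normalizer.trans hNM) hKM)))))
    refine (bigger_or_vanish χ K hK M hM hKM).resolve_right fun hvan => hM.1 ?_
    -- some element of `H` outside `K` does not vanish
    obtain ⟨g, hgH, hgK, hg0⟩ : ∃ g ∈ H, g ∉ K ∧ (χ : G → ℂ) g ≠ 0 := by
      by_contra hno
      push Not at hno
      haveI := Fintype.ofFinite H
      obtain ⟨a, ha0, ha⟩ := exists_degree_pos χ.2
      have hne : Cfsg.classInner (fun x : H => (χ : G → ℂ) x) (fun _ => 1) ≠ 0 := by
        simp only [Cfsg.classInner, map_one, mul_one]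
        refine mul_ne_zero (inv_ne_zero (Nat.cast_ne_zero.mpr Nat.card_pos.ne')) ?_
        rw [← Finset.sum_filter_add_sum_filter_not Finset.univ (fun x : H => (x : G) ∈ K),
          Finset.sum_eq_zero (s := Finset.univ.filter (fun x : H => ¬ (x : G) ∈ K))
            (fun x hx => hno x x.2 (Finset.mem_filter.mp hx).2), add_zero,
          Finset.sum_congr rfl (f := fun x : H => (χ : G → ℂ) (x : G)) (g := fun _ => (a : ℂ))
            (fun x hx => ((hK x).mp (Finset.mem_filter.mp hx).2).trans ha),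
          Finset.sum_const, nsmul_eq_mul]
        refine mul_ne_zero (Nat.cast_ne_zero.mpr (Finset.card_ne_zero.mpr ⟨1, ?_⟩))
          (Nat.cast_ne_zero.mpr ha0.ne')
        simp
      obtain ⟨e, -, he, -⟩ := Clifford.restrict_eq_smul H χ.2 isIrr_one (fun g => rfl) hne
      refine hKH' fun x hx => (hK x).mpr ?_
      have h1 := congrFun he ⟨x, hx⟩
      have h2 := congrFun he 1
      simp only [Pi.smul_apply, OneMemClass.coe_one] at h1 h2
      rw [h1, h2]
    obtain ⟨k, hk, m, hm, rfl⟩ := Subgroup.mem_sup_of_normal_left.mp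
      (show g ∈ K ⊔ M by rw [hM.2 _ (right_lt_sup.mpr hKM)]; trivial)
    have hmH : m ∈ H := by simpa using H.mul_mem (H.inv_mem (hKH hk)) hgH
    have hmK : m ∉ K := fun h => hgK (K.mul_mem hk h)
    have hm0 : (χ : G → ℂ) m ≠ 0 := by
      intro h0
      apply hg0
      rw [classFunction_mul_comm (isClassFunction_of_isIrr χ.2),
        PrincipalBlock.apply_mul_of_eq_one χ ((hK k).mp hk), h0]
    set R := M.normalCore ⊓ H with hR
    have hRH : R ≤ H := inf_le_right
    have hsupR : H ≤ R ⊔ K := by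
      have hmem : (m : G ⧸ K) ∈ R.map (QuotientGroup.mk' K) :=
        ⟨m, ⟨hvan m hm hm0, hmH⟩, rfl⟩
      have hle : R.map (QuotientGroup.mk' K) ≤ A := Subgroup.map_le_iff_le_comap.mpr hRH
      haveI : (R.map (QuotientGroup.mk' K)).Normal :=
        Subgroup.Normal.map inferInstance _ (QuotientGroup.mk'_surjective K)
      have hne : R.map (QuotientGroup.mk' K) ≠ ⊥ := fun e => hmK (by
        rw [← QuotientGroup.eq_one_iff, ← Subgroup.mem_bot, ← e]; exact hmem)
      have heq := (hAmin _ inferInstance hle).resolve_left hne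
      rw [hH, ← heq, Subgroup.comap_map_eq, QuotientGroup.ker_mk']
    -- the `q`-core of `K` is a Sylow subgroup of `K` contained in the core of `M`
    haveI := Solvable.fittingSubgroup_isNilpotent (G := G)
    obtain ⟨S⟩ : Nonempty (Sylow q K) := inferInstance
    have h03 := (Group.isNilpotent_of_finite_tfae (G := K)).out 0 3
    haveI : (S : Subgroup K).Characteristic := S.characteristic_of_normal
      (h03.mp inferInstance q inferInstance S)
    set O := (S : Subgroup K).map K.subtype with hO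
    haveI : O.Normal := ConjAct.normal_of_characteristic_of_normal
    have hOK : O ≤ K := Subgroup.map_subtype_le _
    have hOQ : O ≤ Q := by
      have hOp : IsPGroup q (O.subgroupOf H) := (S.isPGroup'.map _).comap_subtype
      haveI : (O.subgroupOf H).Normal := inferInstance
      have h1 := Subgroup.map_mono (f := H.subtype)
        ((Solvable.le_pCore hOp).trans (Solvable.pCore_le_sylow P))
      rwa [Subgroup.map_subgroupOf_eq_of_le (hOK.trans hKH)] at h1
    have hOD : O ≤ M.normalCore :=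
      Subgroup.normal_le_normalCore.mpr (hOQ.trans (Subgroup.le_normalizer.trans hNM))
    have hOi : ¬ q ∣ O.relIndex K := by
      rw [Subgroup.relIndex, hO, ← Subgroup.comap_subtype,
        Subgroup.comap_map_eq_self_of_injective K.subtype_injective]
      exact S.not_dvd_index
    have hRi : ¬ q ∣ R.relIndex H := by
      intro hd
      refine hOi (hd.trans ?_)
      have h1 : R.relIndex H = R.relIndex K := by
        rw [← Subgroup.relIndex_sup_right K R, show K ⊔ R = H from
          le_antisymm (sup_le hKH hRH) (sup_comm R K ▸ hsupR)]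
      rw [h1]
      exact Subgroup.relIndex_dvd_of_le_left K (le_inf hOD (hOK.trans hKH))
    have hQR : Q ≤ R := le_of_coprime_relIndex hQp hQH hRi
    exact eq_top_iff.mpr ((frattini hQp hQR fun hd => hQi (hd.trans
      (relIndex_dvd_mid hQR hRH))).ge.trans
        (sup_le hNM (inf_le_left.trans (Subgroup.normalCore_le M))))

end CfsgLib.Broline73
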