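import Cfsg.Agent.Broline73.Basic
import Cfsg.Agent.GaloisAverage.CoprimeModule

/-!
# Nilpotent length is at most the number of degrees (Garrison)
-/

set_option autoImplicit false
set_option linter.style.haveILetI false
set_option linter.unusedSectionVars false

namespace CfsgLib.Broline73

open CfsgLib.Characters CfsgLib.OddOrderChar CfsgLib.CharactersDeep

universe u

theorem charDegrees_finite (G : Type u) [Group G] [Finite G] : (Cfsg.charDegrees G).Finite :=
  haveI := Fintype.ofFinite G
  Set.finite_range (fun χ : Cfsg.IrrCharacter G => Cfsg.charDegree (χ : G → ℂ))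

theorem one_mem_charDegrees (G : Type u) [Group G] [Finite G] : 1 ∈ Cfsg.charDegrees G :=
  haveI := Fintype.ofFinite G
  DegreeGraph.mem_charDegrees (χ := fun _ => 1) isIrr_one (d := 1) Nat.cast_one.symm

/-- The quotient by the Fitting subgroup has fewer degrees. -/
theorem card_degrees_quotient_fitting_lt (G : Type u) [Group G] [Finite G] [Group.IsSolvable G]
    [(Cfsg.fittingSubgroup G).Normal] (hF : Cfsg.fittingSubgroup G ≠ ⊤) :
    Nat.card ↥(Cfsg.charDegrees (G ⧸ Cfsg.fittingSubgroup G)) <
      Nat.card ↥(Cfsg.charDegrees G) := by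
  classical
  haveI := Fintype.ofFinite G
  haveI := Fintype.ofFinite (Cfsg.fittingSubgroup G)
  rw [Nat.card_coe_set_eq, Nat.card_coe_set_eq]
  refine Set.ncard_lt_ncard ⟨DegreeGraph.charDegrees_quotient_subset _, fun hsub => ?_⟩
    (charDegrees_finite G)
  obtain ⟨b, hb, hmax⟩ := (charDegrees_finite G).exists_maximal ⟨1, one_mem_charDegrees G⟩
  obtain ⟨β, hβ⟩ := hsub hb
  set π := QuotientGroup.mk' (Cfsg.fittingSubgroup G)
  let χ : Cfsg.IrrCharacter G :=
    ⟨fun g => (β : G ⧸ Cfsg.fittingSubgroup G → ℂ) (π g),
      isIrr_comp π (QuotientGroup.mk'_surjective _) β.2⟩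
  have hχ : Cfsg.charDegree (χ : G → ℂ) = b := by
    rw [← hβ]
    simp [Cfsg.charDegree, χ]
  have hle : Cfsg.fittingSubgroup G ≤ PrincipalBlock.charKer χ := fun g hg => by
    rw [PrincipalBlock.mem_charKer]
    show (β : G ⧸ Cfsg.fittingSubgroup G → ℂ) (π g) = (β : _ → ℂ) (π 1)
    rw [show π g = π 1 from ((QuotientGroup.eq_one_iff g).mpr hg).trans (map_one π).symm]
  have hcases : ¬ PrincipalBlock.charKer χ ≤ Cfsg.fittingSubgroup G ∨
      (PrincipalBlock.charKer χ = Cfsg.fittingSubgroup G ∧
        Group.IsSolvable (G ⧸ PrincipalBlock.charKer χ) ∧ PrincipalBlock.charKer χ ≠ ⊤) := by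
    by_cases h : PrincipalBlock.charKer χ ≤ Cfsg.fittingSubgroup G
    · exact Or.inr ⟨le_antisymm h hle, inferInstance, fun e => hF (top_le_iff.mp (e ▸ h))⟩
    · exact Or.inl h
  obtain ⟨ψ, hlt, -⟩ := broline χ (PrincipalBlock.charKer χ) (fun g => Iff.rfl) hcases
  rw [hχ] at hlt
  exact absurd (hmax ⟨ψ, rfl⟩ hlt.le) (not_le.mpr hlt)

theorem isNilpotent_top_quotient {G : Type u} [Group G] [Finite G] {A : Subgroup G}
    {h : (A.subgroupOf (⊤ : Subgroup G)).Normal} (hnil : Group.IsNilpotent G) :
    Group.IsNilpotent (↥(⊤ : Subgroup G) ⧸ A.subgroupOf ⊤) :=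
  Group.nilpotent_quotient_of_nilpotent _

/-- A nilpotent factor, transported along equalities. -/
theorem factor_congr {G : Type u} [Group G] {A A' B B' : Subgroup G} (hA : A = A') (hB : B = B')
    (hn : ∀ h : (A'.subgroupOf B').Normal, Group.IsNilpotent (↥B' ⧸ A'.subgroupOf B')) :
    ∀ h : (A.subgroupOf B).Normal, Group.IsNilpotent (↥B ⧸ A.subgroupOf B) := by
  subst hA hB; exact hn

/-- A series with nilpotent factors, as long as the number of degrees. -/
theorem exists_series : ∀ (n : ℕ) (G : Type u) [Group G] [Finite G] [Group.IsSolvable G],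
    Nat.card ↥(Cfsg.charDegrees G) ≤ n + 1 →
    ∃ N : Fin (n + 2) → Subgroup G, N 0 = ⊥ ∧ N (Fin.last (n + 1)) = ⊤ ∧ Monotone N ∧
      (∀ i, (N i).Normal) ∧ ∀ i : Fin (n + 1),
        ∀ h : (N i.castSucc).subgroupOf (N i.succ) |>.Normal,
          Group.IsNilpotent (↥(N i.succ) ⧸ (N i.castSucc).subgroupOf (N i.succ)) := by
  intro n
  induction n with
  | zero =>
    intro G _ _ _ hcd
    haveI := Solvable.fittingSubgroup_normal (G := G)
    have hF : Cfsg.fittingSubgroup G = ⊤ := by
      by_contra hF
      have h1 := card_degrees_quotient_fitting_lt G hF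
      have h2 : 0 < Nat.card ↥(Cfsg.charDegrees (G ⧸ Cfsg.fittingSubgroup G)) := by
        rw [Nat.card_coe_set_eq]
        exact (Set.ncard_pos (charDegrees_finite _)).mpr ⟨1, one_mem_charDegrees _⟩
      omega
    have hnil : Group.IsNilpotent G := by
      have h := Solvable.fittingSubgroup_isNilpotent (G := G)
      rw [hF] at h
      exact Group.nilpotent_of_mulEquiv Subgroup.topEquiv
    refine ⟨![⊥, ⊤], rfl, rfl, fun i j hij => ?_, fun i => ?_, fun i h => ?_⟩
    · fin_cases i <;> fin_cases j <;> simp_all
    · fin_cases i <;> simp <;> infer_instance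
    · fin_cases i
      exact isNilpotent_top_quotient hnil
  | succ n ih =>
    intro G _ _ _ hcd
    haveI := Solvable.fittingSubgroup_normal (G := G)
    have hFnil := Solvable.fittingSubgroup_isNilpotent (G := G)
    set F := Cfsg.fittingSubgroup G with hFdef
    have hcd' : Nat.card ↥(Cfsg.charDegrees (G ⧸ F)) ≤ n + 1 := by
      by_cases hF : F = ⊤
      · haveI : Subsingleton (G ⧸ F) := QuotientGroup.subsingleton_iff.mpr hF
        refine le_trans ?_ (Nat.le_add_left 1 n)
        rw [Nat.card_coe_set_eq, Set.ncard_le_one (charDegrees_finite _)]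
        have h1 : ∀ a ∈ Cfsg.charDegrees (G ⧸ F), a = 1 := fun a ha => by
          haveI := Fintype.ofFinite (G ⧸ F)
          haveI : IsMulCommutative (G ⧸ F) := ⟨⟨fun a b => Subsingleton.elim _ _⟩⟩
          obtain ⟨χ, hχ, ha', -⟩ := DegreeGraph.exists_of_mem ha
          rw [GaloisAverage.irr_one_eq_one hχ] at ha'
          exact_mod_cast ha'.symm
        exact fun a ha b hb => (h1 a ha).trans (h1 b hb).symm
      · exact Nat.le_of_lt_succ (lt_of_lt_of_le (card_degrees_quotient_fitting_lt G hF) hcd)
    obtain ⟨N, hN0, hNl, hNm, hNn, hNq⟩ := ih (G ⧸ F) hcd'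
    set π := QuotientGroup.mk' F with hπ
    refine ⟨Fin.cons ⊥ fun i => (N i).comap π, rfl, ?_, ?_, ?_, ?_⟩
    · rw [show Fin.last (n + 1 + 1) = (Fin.last (n + 1)).succ from rfl, Fin.cons_succ, hNl,
        Subgroup.comap_top]
    · intro i j hij
      cases i using Fin.cases with
      | zero => exact bot_le
      | succ i =>
        cases j using Fin.cases with
        | zero => simp at hij
        | succ j =>
          simp only [Fin.cons_succ]
          exact Subgroup.comap_mono (hNm (Fin.succ_le_succ_iff.mp hij))
    · intro i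
      cases i using Fin.cases with
      | zero => simp only [Fin.cons_zero]; infer_instance
      | succ i => simp only [Fin.cons_succ]; exact Subgroup.Normal.comap (hNn i) π
    · intro i
      cases i using Fin.cases with
      | zero =>
        refine factor_congr (A' := ⊥) (B' := (N 0).comap π) rfl (Fin.cons_succ _ _ _) ?_
        intro h
        have hN0' : (N 0).comap π = F := by
          rw [hN0, MonoidHom.comap_bot, QuotientGroup.ker_mk']
        haveI : Group.IsNilpotent ↥((N 0).comap π) := by
          rw [hN0']; exact hFnil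
        exact Group.nilpotent_quotient_of_nilpotent _
      | succ i =>
        refine factor_congr (A' := (N i.castSucc).comap π) (B' := (N i.succ).comap π)
          (by rw [← Fin.succ_castSucc, Fin.cons_succ]) (Fin.cons_succ _ _ _) ?_
        intro h
        haveI : ((N i.castSucc).subgroupOf (N i.succ)).Normal :=
          Subgroup.normal_subgroupOf_of_le_normalizer
            (by rw [Subgroup.normalizer_eq_top_iff.mpr (hNn _)]; exact le_top)
        haveI := hNq i inferInstance
        set f := π.subgroupComap (N i.succ) with hf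
        have hker : ((N i.castSucc).comap π).subgroupOf ((N i.succ).comap π) =
            ((N i.castSucc).subgroupOf (N i.succ)).comap f := rfl
        set g := (QuotientGroup.mk' ((N i.castSucc).subgroupOf (N i.succ))).comp f with hg
        have hg' : g.ker = ((N i.castSucc).comap π).subgroupOf ((N i.succ).comap π) := by
          rw [hker, hg, ← MonoidHom.comap_ker, QuotientGroup.ker_mk']
        exact Group.nilpotent_of_mulEquiv
          ((QuotientGroup.quotientKerEquivOfSurjective g ((QuotientGroup.mk'_surjective _).comp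
            (MonoidHom.subgroupComap_surjective_of_surjective π _
              (QuotientGroup.mk'_surjective F)))).symm.trans
            (QuotientGroup.quotientMulEquivOfEq hg'))

end CfsgLib.Broline73
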